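import Cfsg.Agent.Lib.Flavell.Weights

/-!
# The commutant of `Q = [Q, σ]` on a moved weight space is fixed by `σ`

* `Act.commute_of_scalar`: with scalar centre, an endomorphism commuting with `Q` commutes with `S`;
* `Act.commute_sub_one`: `(S f - f S) (π d - 1) = 0` for `f` commuting with `Q` and `d` central.
-/

set_option autoImplicit false

namespace Cfsg.Agent.Flavell

open Subgroup
open scoped commutatorElement

variable {K : Type*} [Field K] {W : Type*} [AddCommGroup W] [Module K W]
variable {Q : Type*} [Group Q] [Finite Q] {π : Q →* Module.End K W} {σ : MulAut Q} {S : Module.End K W}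
  {r : ℕ} [IsAlgClosed K] [FiniteDimensional K W]

/-- An eigenvalue of `x ↦ S x S⁻¹` on the commutant of `Q` other than one is impossible. -/
theorem Act.commute_of_scalar [Nontrivial W] (ha : Act π σ S r) (hgen : moved σ ⊤ = ⊤)
    (hcl : commutator Q ≤ center Q) (hfixc : ∀ c, σ c = c ↔ c ∈ center Q) (hrK : (r : K) ≠ 0)
    (lam : center Q →* K) (hlam : ∀ z : center Q, π z = lam z • 1) {m : ℕ} (hm : 0 < m)
    (hr : r = 2 ^ m + 1) (hidx : (rad π hcl).index = 4 ^ m) (f : Module.End K W)
    (hf : ∀ g, f * π g = π g * f) : S * f = f * S := by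
  classical
  haveI : NeZero (r : K) := ⟨hrK⟩
  obtain ⟨ζ, hζ⟩ := HasEnoughRootsOfUnity.exists_primitiveRoot K r
  have hS1 : S ^ (r - 1) * S = 1 := by rw [← pow_succ, Nat.sub_add_cancel ha.cop.prime.one_le, ha.pow_S]
  have hS2 : S * S ^ (r - 1) = 1 := by rw [← pow_succ', Nat.sub_add_cancel ha.cop.prime.one_le, ha.pow_S]
  let B : Submodule K (Module.End K W) :=
    { carrier := {x | ∀ g, x * π g = π g * x}
      zero_mem' := fun g => by simp
      add_mem' := fun {a b} ha hb g => by rw [add_mul, mul_add, ha, hb]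
      smul_mem' := fun c a ha g => by rw [smul_mul_assoc, mul_smul_comm, ha] }
  have hB : ∀ x ∈ B, S * x * S ^ (r - 1) ∈ B := by
    intro x hx g
    obtain ⟨g, rfl⟩ := σ.surjective g
    have e1 : π (σ g) = S * π g * S ^ (r - 1) := by rw [ha.comm, mul_assoc, hS2, mul_one]
    rw [e1]
    calc S * x * S ^ (r - 1) * (S * π g * S ^ (r - 1)) = S * x * (S ^ (r - 1) * S) * π g * S ^ (r - 1) := by
          simp only [mul_assoc]
      _ = S * (x * π g) * S ^ (r - 1) := by rw [hS1, mul_one]; simp only [mul_assoc]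
      _ = S * π g * (S ^ (r - 1) * S) * x * S ^ (r - 1) := by rw [hx, hS1, mul_one]; simp only [mul_assoc]
      _ = S * π g * S ^ (r - 1) * (S * x * S ^ (r - 1)) := by simp only [mul_assoc]
  let Φ : Module.End K B :=
    ((LinearMap.mulLeft K S).comp (LinearMap.mulRight K (S ^ (r - 1)))).restrict fun x hx => by
      simpa [mul_assoc] using hB x hx
  have hΦ : ∀ x : B, ((Φ x : B) : Module.End K W) = S * (x * S ^ (r - 1)) := fun x => rfl
  suffices hΦ1 : Φ = 1 by
    have h := congrArg Subtype.val (LinearMap.congr_fun hΦ1 ⟨f, hf⟩)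
    rw [hΦ, Module.End.one_apply] at h
    change S * (f * S ^ (r - 1)) = f at h
    calc S * f = S * (f * S ^ (r - 1)) * S := by rw [mul_assoc, mul_assoc, hS1, mul_one]
      _ = f * S := by rw [h]
  have hΦr : Φ ^ r = 1 := by
    have hk : ∀ (k : ℕ) (x : B), (((Φ ^ k) x : B) : Module.End K W) = S ^ k * x * (S ^ (r - 1)) ^ k := by
      intro k
      induction k with
      | zero => intro x; simp
      | succ k ih =>
        intro x
        rw [pow_succ', Module.End.mul_apply, hΦ, ih, pow_succ' S, pow_succ (S ^ (r - 1))]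
        simp only [mul_assoc]
    refine LinearMap.ext fun x => Subtype.ext ?_
    rw [hk, ha.pow_S, one_mul, ← pow_mul, mul_comm (r - 1), pow_mul, ha.pow_S, one_pow, mul_one,
      Module.End.one_apply]
  by_contra hne
  obtain ⟨i, hi0, hi⟩ := HallHigman.exists_eigen_ne hζ hrK ha.cop.prime.pos hΦr hne
  obtain ⟨⟨b, hb⟩, hbm, hb0⟩ := (Submodule.ne_bot_iff _).1 hi
  rw [Module.End.mem_eigenspace_iff] at hbm
  have hbne : b ≠ 0 := fun e => hb0 (Subtype.ext e)
  have hSb : S * b = ζ ^ (i : ℕ) • (b * S) := by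
    have h := congrArg Subtype.val hbm
    rw [hΦ] at h
    change S * (b * S ^ (r - 1)) = ζ ^ (i : ℕ) • b at h
    calc S * b = S * (b * S ^ (r - 1)) * S := by rw [mul_assoc, mul_assoc, hS1, mul_one]
      _ = _ := by rw [h, smul_mul_assoc]
  have hζ0 : ζ ^ (i : ℕ) ≠ 0 := pow_ne_zero _ (hζ.ne_zero ha.cop.prime.ne_zero)
  have hSbv : ∀ v, S (b v) = ζ ^ (i : ℕ) • b (S v) := fun v => LinearMap.congr_fun hSb v
  -- the image
  set I := LinearMap.range b with hI
  have hπI : ∀ g, ∀ w ∈ I, π g w ∈ I := by
    rintro g _ ⟨v, rfl⟩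
    exact ⟨π g v, LinearMap.congr_fun (hb g) v⟩
  have hSI : ∀ w ∈ I, S w ∈ I := by
    rintro _ ⟨v, rfl⟩
    exact ⟨ζ ^ (i : ℕ) • S v, by rw [map_smul, hSbv]⟩
  obtain ⟨v₀, hv₀⟩ : ∃ v, b v ≠ 0 := by
    by_contra! h
    exact hbne (LinearMap.ext h)
  haveI : Nontrivial I := ⟨⟨⟨b v₀, v₀, rfl⟩, 0, fun e => hv₀ (congrArg Subtype.val e)⟩⟩
  let πI : Q →* Module.End K I :=
    { toFun := fun g => (π g).restrict (hπI g)
      map_one' := LinearMap.ext fun v => Subtype.ext (by simp)
      map_mul' := fun a b => LinearMap.ext fun v => Subtype.ext (by simp) }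
  have hπI' : ∀ g (w : I), ((πI g w : I) : W) = π g w := fun g w => rfl
  set S' : Module.End K I := S.restrict hSI with hS'
  have hS'' : ∀ w : I, ((S' w : I) : W) = S w := fun w => rfl
  have hact : Act πI σ S' r :=
    { cop := ha.cop
      pow_S := by
        rw [hS', Module.End.pow_restrict]
        exact LinearMap.ext fun w => Subtype.ext (LinearMap.congr_fun ha.pow_S (w : W))
      comm := fun g => LinearMap.ext fun w => Subtype.ext (LinearMap.congr_fun (ha.comm g) (w : W))
      fpf := fun w hw => Subtype.ext (ha.fpf w (congrArg Subtype.val hw))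
      card_ne := ha.card_ne }
  have hlamI : ∀ z : center Q, πI z = lam z • 1 := fun z => LinearMap.ext fun w => Subtype.ext (by
    rw [hπI', hlam z]
    rfl)
  have hradI : rad πI hcl = rad π hcl := by
    ext g
    rw [mem_rad, mem_rad]
    refine forall_congr' fun h => ?_
    let z : center Q := ⟨⁅h, g⁆, PGroup.mem_center_of_class_two hcl h g⟩
    rw [show π ⁅h, g⁆ = lam z • 1 from hlam z, show πI ⁅h, g⁆ = lam z • 1 from hlamI z]
    have e : ∀ {U : Type _} [AddCommGroup U] [Module K U] [Nontrivial U] (a : K),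
        a • (1 : Module.End K U) = 1 ↔ a = 1 := fun a => ⟨fun h => smul_left_injective K
      (one_ne_zero (α := Module.End K _)) (h.trans (one_smul K _).symm), fun h => by rw [h, one_smul]⟩
    rw [e, e]
  have hneI : ∃ g, πI g ≠ 1 := by
    by_contra! hall
    have : rad πI hcl = ⊤ := eq_top_iff.2 fun g _ h => hall _
    rw [hradI] at this
    rw [this, index_top] at hidx
    exact absurd hidx (Nat.one_lt_pow hm.ne' (by norm_num)).ne
  set T := ((Finset.univ : Finset (Fin r)).erase ⟨0, ha.cop.prime.pos⟩).erase i with hT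
  have hmain := HallHigman.sq_finrank_le_of_support hζ hrK ha.cop.prime.pos hact.pow_S T fun j hj w hw => by
    rcases eq_or_ne j i with rfl | hji
    · -- `w = b v`, and `S v - v` is killed by `b`
      obtain ⟨⟨x, v, rfl⟩, rfl⟩ : ∃ x : I, x = w := ⟨w, rfl⟩
      have h1 : b (S v) = b v := by
        have := congrArg Subtype.val hw
        rw [hS''] at this
        change S (b v) = ζ ^ (j : ℕ) • b v at this
        rw [hSbv] at this
        exact smul_right_injective W hζ0 this
      set U := LinearMap.ker b with hU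
      have hUS : ∀ u ∈ U, S u ∈ U := fun u hu => LinearMap.mem_ker.2 <| by
        have h2 : ζ ^ (j : ℕ) • b (S u) = 0 := by rw [← hSbv, LinearMap.mem_ker.1 hu, map_zero]
        exact (smul_eq_zero.1 h2).resolve_left hζ0
      let D : U →ₗ[K] U := (S - 1).restrict fun u hu => by simpa using U.sub_mem (hUS u hu) hu
      have hD : Function.Injective D := (injective_iff_map_eq_zero D).2 fun u hu => Subtype.ext <| by
        have h3 : S (u : W) - (u : W) = 0 := by simpa [D] using congrArg Subtype.val hu
        exact ha.fpf _ (sub_eq_zero.1 h3)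
      obtain ⟨u, hu⟩ := (LinearMap.injective_iff_surjective.1 hD)
        ⟨S v - v, LinearMap.mem_ker.2 (by rw [map_sub, h1, sub_self])⟩
      have h3 : S (u : W) - (u : W) = S v - v := by simpa [D] using congrArg Subtype.val hu
      have h4 := ha.fpf (v - u) (by rw [map_sub]; linear_combination (norm := module) -h3)
      refine Subtype.ext ?_
      rw [sub_eq_zero] at h4
      show b v = 0
      rw [h4]
      exact LinearMap.mem_ker.1 u.2
    · refine hact.fpf w ?_
      have : j = ⟨0, ha.cop.prime.pos⟩ := by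
        by_contra h
        exact hj (by simp [hT, hji, h])
      rw [hw, this, pow_zero, one_smul]
  obtain ⟨-, N, hN, hle⟩ := hact.index_le_mul hgen hcl hfixc lam hlamI hneI hmain
  rw [hradI, hidx, show (4 : ℕ) ^ m = 2 ^ m * 2 ^ m by rw [← mul_pow]; norm_num] at hN hle
  have hcard : T.card = 2 ^ m - 1 := by
    rw [hT, Finset.card_erase_of_mem (by simp [Fin.ext_iff, hi0]), Finset.card_erase_of_mem (Finset.mem_univ _),
      Finset.card_univ, Fintype.card_fin, hr]
    omega
  rw [hcard] at hle
  have hN' : N = 2 ^ m := Nat.eq_of_mul_eq_mul_left ha.cop.prime.pos (by rw [hr] at hN ⊢; linarith)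
  rw [hN'] at hle
  exact absurd (Nat.le_of_mul_le_mul_right hle (Nat.two_pow_pos m)) (by have := Nat.two_pow_pos m; omega)

variable [Group.IsNilpotent Q] (ha : Act π σ S r) (hinj : Function.Injective π) (hgen : moved σ ⊤ = ⊤)

include ha hinj hgen

/-- An endomorphism commuting with `Q` commutes with `S` on the image of `π d - 1`, `d` central. -/
theorem Act.commute_sub_one (hQ : IsPGroup 2 Q) (hrK : (r : K) ≠ 0) {f : Module.End K W}
    (hf : ∀ g, f * π g = π g * f) {d : Q} (hd : d ∈ center Q) : (S * f - f * S) * (π d - 1) = 0 := by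
  classical
  letI : CommGroup (center Q) :=
    { (inferInstance : Group (center Q)) with
      mul_comm := fun a b => Subtype.ext (Subgroup.mem_center_iff.1 b.2 a) }
  have hZ : (Nat.card (center Q) : K) ≠ 0 := fun h => ha.card_ne (by
    obtain ⟨c, hc⟩ := card_subgroup_dvd_card (center Q)
    rw [hc, Nat.cast_mul, h, zero_mul])
  have hSf : ∀ z ∈ center Q, (S * f - f * S) * π z = π z * (S * f - f * S) := by
    intro z hz
    have hS : S * π z = π z * S := by
      conv_rhs => rw [← (ha.mem_center_iff hinj hgen).1 hz]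
      exact ha.comm z
    have h1 : S * f * π z = π z * (S * f) := by rw [mul_assoc, hf, ← mul_assoc, hS, mul_assoc]
    have h2 : f * S * π z = π z * (f * S) := by rw [mul_assoc, hS, ← mul_assoc, hf, mul_assoc]
    rw [sub_mul, mul_sub, h1, h2]
  by_contra hne
  obtain ⟨μ, v, hv, hev⟩ := HallHigman.exists_character hZ (π.comp (center Q).subtype) _ hne fun z => by
    show (S * f - f * S) * (π d - 1) * π z = π z * ((S * f - f * S) * (π d - 1))
    rw [mul_assoc, sub_mul (π d), one_mul, show π d * π z = π z * π d by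
      rw [← map_mul, ← map_mul, Subgroup.mem_center_iff.1 hd (z : Q)], show π z * π d - π z = π z * (π d - 1) by
      rw [mul_sub, mul_one], ← mul_assoc, hSf z z.2, mul_assoc]
  have hvw : v ∈ wsp π μ := mem_wsp.2 hv
  rw [Module.End.mul_apply, LinearMap.sub_apply (π d), Module.End.one_apply, show π d v = μ ⟨d, hd⟩ • v from
    hv ⟨d, hd⟩, map_sub, map_smul] at hev
  have hlam : Moves π μ := by
    refine ⟨d, fun e => hev ?_⟩
    have h1 : π d v = v := congrArg Subtype.val (LinearMap.congr_fun e ⟨v, hvw⟩)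
    rw [show π d v = μ ⟨d, hd⟩ • v from hv ⟨d, hd⟩] at h1
    rw [← map_smul, h1, sub_self]
  obtain ⟨-, -, m, hm, hr, hidx⟩ := ha.weight_card hinj hgen Nat.prime_two hQ hrK hlam
  obtain ⟨g, hg⟩ := hlam
  haveI : Nontrivial (wsp π μ) := by
    by_contra h
    rw [not_nontrivial_iff_subsingleton] at h
    exact hg (LinearMap.ext fun v => Subsingleton.elim _ _)
  obtain ⟨S', hS', hact⟩ := ha.wrep_act (fun z hz => (ha.mem_center_iff hinj hgen).1 hz) μ
  have hfW : ∀ u ∈ wsp π μ, f u ∈ wsp π μ := fun u hu => mem_wsp.2 fun z => by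
    rw [← Module.End.mul_apply, ← hf, Module.End.mul_apply, mem_wsp.1 hu z, map_smul]
  have hcomm := hact.commute_of_scalar hgen (ha.commutator_le_center hinj hgen)
    (fun c => (ha.mem_center_iff hinj hgen).symm) hrK μ (fun z => wrep_eq_smul μ z) hm hr hidx
    (f.restrict hfW) fun g => LinearMap.ext fun u => Subtype.ext (LinearMap.congr_fun (hf g) (u : W))
  have h2 : S (f v) = f (S v) := by
    have h3 := congrArg Subtype.val (LinearMap.congr_fun hcomm ⟨v, hvw⟩)
    simp only [Module.End.mul_apply, hS'] at h3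
    simpa [hS'] using h3
  refine hev ?_
  have : (S * f - f * S) v = 0 := by
    rw [LinearMap.sub_apply, Module.End.mul_apply, Module.End.mul_apply, h2, sub_self]
  rw [this, smul_zero, sub_zero]

end Cfsg.Agent.Flavell
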