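import Cfsg.Agent.Lib.Flavell.OvergroupGen.Moved
import Cfsg.Agent.Lib.Flavell.Core

/-!
# Overgroups of `[T, σ]` in general

`Cex.moved_pCoreOf_eq_bot_of`: the `p`-core of a proper invariant overgroup of `[T, σ]` is fixed, given
the case of a fixed centralizer in `[T, σ]`.
-/

set_option autoImplicit false

namespace Cfsg.Agent.Flavell

open Subgroup Cfsg

variable {G : Type*} [Group G] [Finite G] {k : Type*} [Field k] {V : Type*} [AddCommGroup V] [Module k V]
  {ρ : Representation k G V} {σ : MulAut G} {τ : Module.End k V} {r p : ℕ} [Fact p.Prime] [CharP k p]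
  [IsAlgClosed k] [FiniteDimensional k V] [Nontrivial V] (hx : Cex ρ σ τ r p)

include hx

/-- The `p`-core of an overgroup of `[T, σ]` is fixed, given the case of a fixed centralizer. -/
theorem Cex.moved_pCoreOf_eq_bot_of (T : Sylow 2 G) (hT : Inv σ (T : Subgroup G))
    (hfixed : ∀ O : Ov σ p (moved σ (T : Subgroup G)), O.A = ⊥ → False)
    {K : Subgroup G} (hK : Inv σ K) (hQ : moved σ (T : Subgroup G) ≤ K) (hne : K ≠ ⊤) :
    moved σ (pCoreOf p K) = ⊥ := by
  by_contra h
  obtain ⟨O⟩ := hx.exists_ov hx.pCore_two_le_center T hT hK hne hQ (map_subtype_le _) (inv_pCoreOf hK)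
    (PCore.isPGroup_pCore.map _) h
  rcases eq_or_ne O.A ⊥ with hA | hA
  · exact hfixed O hA
  · exact O.false_of_moved hx T hT hA hx.pCore_two_le_center

end Cfsg.Agent.Flavell
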