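import Cfsg.Agent.Lib.Flavell.Reduce
import Cfsg.Agent.Lib.Flavell.Weights
import Cfsg.Agent.Lib.PCore.Basic
import Cfsg.Agent.Lib.PGroup.Frattini

/-!
# A fixed-point theorem of Shult type

`commutator_special`: `X = G R`, `R` of prime order prime to `|G|` without fixed vectors on a faithful
irreducible module: `[G, R]` is trivial, or special nonabelian of 2-power order and `r` is a Fermat prime.
-/

set_option autoImplicit false
set_option maxHeartbeats 400000

namespace Cfsg.Agent.Flavell

open Subgroup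
open scoped commutatorElement TensorProduct

universe u v w

/-- Being special passes to isomorphic groups. -/
theorem isSpecial_of_equiv {A : Type u} {B : Type v} [Group A] [Group B] [Finite A] {p : ℕ} [Fact p.Prime]
    (e : A ≃* B) (h : Cfsg.IsSpecial p A) : Cfsg.IsSpecial p B := by
  obtain ⟨hp, hf, hc⟩ := h
  have hcen : (center A).map e.toMonoidHom = center B := by
    ext b
    obtain ⟨a, rfl⟩ := e.surjective b
    rw [show e a = e.toMonoidHom a from rfl, mem_map_iff_mem e.injective, mem_center_iff, mem_center_iff]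
    refine ⟨fun h g => ?_, fun h g => e.injective ?_⟩
    · obtain ⟨g, rfl⟩ := e.surjective g
      simp [← map_mul, h g]
    · simpa using h (e g)
  refine ⟨hp.of_equiv e, ?_, ?_⟩
  · rw [← hcen, ← hf, PGroup.map_frattini hp _ e.surjective]
  · rw [← hcen, ← hc, _root_.commutator_def, _root_.commutator_def, Subgroup.map_commutator,
      map_top_of_surjective _ e.surjective]

variable {X : Type u} [Group X] [Finite X] {k : Type v} [Field k] {p : ℕ} [Fact p.Prime] [CharP k p]
  {V : Type w} [AddCommGroup V] [Module k V] [FiniteDimensional k V] [Nontrivial V]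

/-- The statement of Shult type, from the core. -/
theorem commutator_special (hcore : CoreStmt.{u, v, max v w} (AlgebraicClosure k) p) (G R : Subgroup X)
    [G.Normal] (r : ℕ) (hr : r.Prime) (hR : Nat.card R = r) (hcop : ¬ r ∣ Nat.card G)
    (ρ : Representation k X V) (hfaith : Function.Injective ρ)
    (hirr : ∀ W : Submodule k V, (∀ x : X, W.map (ρ x) ≤ W) → W = ⊥ ∨ W = ⊤)
    (hfix : ∀ v : V, (∀ x ∈ R, ρ x v = v) → v = 0) :
    ⁅G, R⁆ = ⊥ ∨ ((∃ m : ℕ, r = 2 ^ m + 1) ∧ ¬ IsMulCommutative ↥⁅G, R⁆ ∧ Cfsg.IsSpecial 2 ↥⁅G, R⁆) := by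
  haveI := Fact.mk hr
  haveI : Fact (Nat.Prime 2) := ⟨Nat.prime_two⟩
  obtain ⟨⟨a, ha⟩, hagen⟩ := (isCyclic_of_prime_card hR).exists_generator
  have hRpow : ∀ x ∈ R, ∃ i : ℕ, a ^ i = x := fun x hx => by
    obtain ⟨i, hi⟩ := (isOfFinOrder_of_finite (⟨a, ha⟩ : R)).mem_powers_iff_mem_zpowers.2 (hagen ⟨x, hx⟩)
    exact ⟨i, congrArg Subtype.val hi⟩
  have har : a ^ r = 1 := by
    have := congrArg Subtype.val (pow_card_eq_one' (x := (⟨a, ha⟩ : R)))
    rwa [hR] at this
  set σ : MulAut G := MulAut.conjNormal a with hσ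
  have hσc : ∀ g : G, (σ g : X) = a * g * a⁻¹ := fun g => MulAut.conjNormal_apply a g
  set ρG : Representation k G V := ρ.comp G.subtype with hρG
  set τ : Module.End k V := ρ a with hτ
  have hM : Mod ρG σ τ r := by
    refine ⟨⟨hr, ?_, hcop⟩, hfaith.comp Subtype.val_injective, ?_, fun g => ?_, fun v hv => hfix v ?_⟩
    · rw [hσ, ← map_pow, har, map_one]
    · rw [hτ, ← map_pow, har, map_one]
    · show ρ a * ρ g = ρ (σ g : X) * ρ a
      rw [← map_mul, ← map_mul, hσc, inv_mul_cancel_right]
    · intro x hx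
      obtain ⟨i, rfl⟩ := hRpow x hx
      rw [map_pow]
      induction i with
      | zero => rfl
      | succ i ih => rw [pow_succ, Module.End.mul_apply, show ρ a v = v from hv]; exact ih (R.pow_mem ha i)
  -- `O_p(G) = 1`
  have hcore1 : Cfsg.pCore p G = ⊥ := by
    haveI : ((Cfsg.pCore p G).map G.subtype).Normal := inferInstance
    set O := (Cfsg.pCore p G).map G.subtype with hO
    have hOp : IsPGroup p O := (PCore.isPGroup_pCore).map G.subtype
    let W : Submodule k V :=
      { carrier := {v | ∀ x ∈ O, ρ x v = v}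
        add_mem' := fun {v w} hv hw x hx => by rw [map_add, hv x hx, hw x hx]
        zero_mem' := fun x _ => map_zero _
        smul_mem' := fun c {v} hv x hx => by rw [map_smul, hv x hx] }
    obtain ⟨v, -, hv0, hv⟩ := Perm.ModuleHeart.exists_fixed_ne_zero hOp (ρ.comp O.subtype) (W := ⊤)
      (fun _ _ _ => Submodule.mem_top) top_ne_bot
    have hW : W = ⊤ := by
      refine (hirr W fun x => ?_).resolve_left fun h => hv0 ?_
      · rintro _ ⟨y, hy, rfl⟩ o ho
        show ρ o (ρ x y) = ρ x y
        have h1 := hy _ ((inferInstance : O.Normal).conj_mem o ho x⁻¹)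
        rw [inv_inv, map_mul, map_mul, Module.End.mul_apply, Module.End.mul_apply] at h1
        have h2 := congrArg (ρ x) h1
        rw [← Module.End.mul_apply (ρ x) (ρ x⁻¹), ← map_mul, mul_inv_cancel, map_one] at h2
        simpa using h2
      · rw [← Submodule.mem_bot (R := k), ← h]
        exact fun x hx => hv ⟨x, hx⟩
    rw [← map_eq_bot_iff_of_injective _ G.subtype_injective, eq_bot_iff]
    intro x hx
    rw [Subgroup.mem_bot]
    refine hfaith (LinearMap.ext fun y => ?_)
    have hy : y ∈ W := hW ▸ Submodule.mem_top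
    rw [map_one]
    exact hy x hx
  obtain ⟨N, hN, hNp, hNm⟩ := exists_normal_pGroup hcore hM
  have hNbot : N = ⊥ := le_bot_iff.1 (hcore1 ▸ PCore.le_pCore hNp)
  set Q := moved σ ⊤ with hQ
  haveI hQn : Q.Normal := normalizer_eq_top_iff.1 (top_le_iff.1 (le_normalizer_moved ⊤))
  have hQ2 : IsPGroup 2 Q := fun x => by
    obtain ⟨i, hi⟩ := hNm x x.2
    rw [hNbot, mem_bot] at hi
    exact ⟨i, Subtype.ext hi⟩
  -- `[G, R]` is the moved part
  have heq : ⁅G, R⁆ = Q.map G.subtype := by
    refine le_antisymm (commutator_le.2 fun g hg b hb => ?_) ?_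
    · obtain ⟨i, rfl⟩ := hRpow b hb
      have h1 : ∀ (i : ℕ) (y : G), y⁻¹ * (σ ^ i) y ∈ Q := by
        intro i
        induction i with
        | zero => intro y; simp
        | succ i ih =>
          intro y
          rw [pow_succ', MulAut.mul_apply, show y⁻¹ * σ ((σ ^ i) y) =
            (y⁻¹ * σ y) * σ (y⁻¹ * (σ ^ i) y) by rw [map_mul, map_inv]; group]
          exact mul_mem (mem_moved (mem_top y)) (inv_moved inv_top _ (ih y))
      refine ⟨(⟨g, hg⟩⁻¹ : G)⁻¹ * (σ ^ i) (⟨g, hg⟩⁻¹ : G), h1 i _, ?_⟩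
      have h2 : ∀ y : G, ((σ ^ i) y : X) = a ^ i * y * (a ^ i)⁻¹ := fun y => by
        rw [hσ, ← map_pow (MulAut.conjNormal (H := G)) a i, MulAut.conjNormal_apply]
      simp only [map_mul, map_inv, Subgroup.coe_subtype, Subgroup.coe_inv, h2]
      rw [commutatorElement_def]
      group
    · rw [map_le_iff_le_comap, hQ, moved_le_iff]
      intro y _
      show (y⁻¹ : X) * (σ y : X) ∈ ⁅G, R⁆
      have := commutator_mem_commutator (G.inv_mem y.2) ha
      rw [commutatorElement_def, inv_inv] at this
      rw [hσc]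
      simpa [mul_assoc] using this
  by_cases hQb : Q = ⊥
  · exact Or.inl (by rw [heq, hQb, Subgroup.map_bot])
  right
  have hp2 : p ≠ 2 := by
    rintro rfl
    exact hQb (le_bot_iff.1 (hcore1 ▸ PCore.le_pCore hQ2))
  -- base change
  haveI : CharP (AlgebraicClosure k) p :=
    charP_of_injective_algebraMap (algebraMap k (AlgebraicClosure k)).injective p
  let K := AlgebraicClosure k
  let Φ := Module.End.baseChangeHom k K V
  have hrk : (r : k) ≠ 0 := by
    intro h0
    have hrp : r = p := ((Nat.prime_dvd_prime_iff_eq Fact.out hr).1 ((CharP.cast_eq_zero_iff k p r).1 h0)).symm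
    haveI : CharP (Module.End k V) p := charP_of_injective_algebraMap (FaithfulSMul.algebraMap_injective k _) p
    have h1 : (τ - 1) ^ p = 0 := by
      rw [sub_pow_char_of_commute (p := p) (h := Commute.one_right τ), one_pow, ← hrp, hM.pow, sub_self]
    have h2 : Function.Injective ((τ - 1 : Module.End k V) : V → V) :=
      (injective_iff_map_eq_zero _).2 fun y hy => hM.fpf y (sub_eq_zero.1 (by simpa using hy))
    obtain ⟨v, hv⟩ := exists_ne (0 : V)
    have h3 : Function.Injective (((τ - 1) ^ p : Module.End k V) : V → V) := by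
      rw [Module.End.coe_pow]
      exact h2.iterate p
    rw [h1] at h3
    exact hv (h3 (by simp))
  have hrK : (r : K) ≠ 0 := by
    rw [← map_natCast (algebraMap k K)]
    exact (map_ne_zero _).2 hrk
  have hQσ : Inv σ Q := inv_moved inv_top
  let π : Q →* Module.End K (K ⊗[k] V) := Φ.toMonoidHom.comp (ρG.comp Q.subtype)
  have hact : Act π (restr hQσ) (Φ τ) r := by
    refine ⟨hM.cop.restr hQσ, by rw [← map_pow, hM.pow, map_one], fun g => ?_, fun x hx => ?_, ?_⟩
    · show Φ τ * Φ (ρG g) = Φ (ρG (σ g)) * Φ τ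
      rw [← map_mul, hM.comm, map_mul]
    · have hinj : Function.Injective ((τ - 1).baseChange K) :=
        Module.Flat.lTensor_preserves_injective_linearMap (τ - 1)
          ((injective_iff_map_eq_zero _).2 fun y hy => hM.fpf y (sub_eq_zero.1 (by simpa using hy)))
      refine hinj ?_
      rw [map_zero]
      show Φ (τ - 1) x = 0
      rw [map_sub, map_one]
      simpa using sub_eq_zero.2 hx
    · obtain ⟨e, he⟩ := hQ2.exists_card_eq
      rw [he, Nat.cast_pow]
      refine pow_ne_zero _ fun h0 => hp2 ?_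
      exact (Nat.prime_dvd_prime_iff_eq Fact.out Nat.prime_two).1
        ((CharP.cast_eq_zero_iff K p 2).1 h0)
  have hinj : Function.Injective π := by
    intro x y h
    refine Subtype.ext (hM.faith ?_)
    apply LinearMap.baseChangeHom_injective (R := k) (S := K) (M := V) (N := V)
    exact h
  have hgen : moved (restr hQσ) ⊤ = ⊤ := by
    refine map_injective Q.subtype_injective ?_
    rw [map_moved_restr hQσ, ← MonoidHom.range_eq_map, Subgroup.range_subtype]
    exact hM.cop.moved_moved inv_top
  haveI : Group.IsNilpotent Q := hQ2.isNilpotent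
  haveI : Nontrivial Q := (nontrivial_iff_ne_bot Q).2 hQb
  obtain ⟨g, hg⟩ := exists_ne (1 : Q)
  obtain ⟨m, -, hm⟩ := (hact.exists_fermat hinj hgen Nat.prime_two hQ2 hrK hg).2
  obtain ⟨x, y, hxy⟩ := hact.exists_not_comm hinj hgen hg
  let e : Q ≃* ↥⁅G, R⁆ :=
    (Q.equivMapOfInjective G.subtype G.subtype_injective).trans (MulEquiv.subgroupCongr heq.symm)
  refine ⟨⟨m, hm⟩, fun hc => hxy (e.injective ?_), isSpecial_of_equiv e (hact.isSpecial hinj hgen hQ2 hrK)⟩
  rw [map_mul, map_mul]
  exact hc.is_comm.comm _ _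

end Cfsg.Agent.Flavell
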